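import Mathlib
import Cfsg.Prelude.Def_OddOrderLocal
import Cfsg.Statements.S1350
import Cfsg.Statements.S1351
import Cfsg.Statements.S1352
import Cfsg.Statements.S1359
import Cfsg.Statements.S1374
import Cfsg.Statements.S1417
import Cfsg.Statements.S1430
import Cfsg.Statements.S1431
import Cfsg.Statements.S1432
import Cfsg.Statements.S1437
import Cfsg.Statements.S1438
import Cfsg.Agent.Lib.Helper57.BG.HallFusion
import Cfsg.Agent.Lib.Helper35.BG.Basic
import Cfsg.Agent.Lib.Helper35.BG.Hall
import Cfsg.Agent.Lib.Helper35.BG.Compl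
import Cfsg.Agent.Lib.Helper35.BG.S1355Core
import Cfsg.Agent.Lib.Helper67.BG.Basics
import Cfsg.Agent.Lib.Helper67.BG.HallUtil
import Cfsg.Agent.Lib.Helper75.BGUtil
import Cfsg.Agent.Lib.Helper65.BG.S1407Core
import Cfsg.Agent.Lib.Helper4.CNFit
import Cfsg.Agent.Lib.Helper90.SylowCount

/-!
Bender–Glauberman chain, statement S1438 (B–G Lemma 15.3): for a nontrivial Hall subgroup `H` of
`M_σ`, `C_M(H) = C_{M_σ}(H) X` with `X` a cyclic `τ₂(M)`-group, and `N_M(H)` controls `G`-fusion
in `H`.  Derived from S1350, S1351, S1352, S1359, S1374, S1417, S1430, S1431, S1432, S1437 (taken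
as hypotheses).
-/

set_option autoImplicit false

namespace Cfsg.Agent.Lib.Helper57.BG

open Cfsg Cfsg.Agent.Lib.Helper46 Cfsg.Agent.Lib.Helper35.BG Cfsg.Agent.Lib.Helper67.BG

/-- A subgroup of `M` all of whose prime divisors lie in `σ(M)` lies in `M_σ` (given that `M_σ` is
a Hall subgroup of `M`). -/
theorem le_sigmaCore_of_card_coprime {G : Type*} [Group G] [Finite G] {M L : Subgroup G}
    (hHall : IsPiHallOf (sigma M) (sigmaCore M) M) (hLM : L ≤ M)
    (hL : ∀ p : ℕ, p.Prime → p ∣ Nat.card L → p ∈ sigma M) : L ≤ sigmaCore M := by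
  apply le_of_coprime_relIndex_of_normal (sigmaCore_le M) hLM (sigmaCore_normalizer M)
  apply Nat.coprime_of_dvd
  intro k hk h1 h2
  exact hHall.2.2 k hk (hL k hk h1) h2

/-- The part of `C_M(H)` inside `M_σ` is a normal Hall subgroup of `C_M(H)`. -/
theorem coprime_card_relIndex_sigmaCore_inf {G : Type*} [Group G] [Finite G] {M C : Subgroup G}
    (hHall : IsPiHallOf (sigma M) (sigmaCore M) M) (hCM : C ≤ M) :
    (Nat.card (sigmaCore M ⊓ C : Subgroup G)).Coprime ((sigmaCore M ⊓ C).relIndex C) := by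
  have hCn : C ≤ Subgroup.normalizer (sigmaCore M : Set G) := hCM.trans (sigmaCore_normalizer M)
  have e1 := Cfsg.Agent.Lib.Helper90.card_sup_mul_card_inf_of_le_normalizer hCn
  have e2 : Nat.card (sigmaCore M ⊓ C : Subgroup G) * (sigmaCore M ⊓ C).relIndex C = Nat.card C :=
    card_mul_relIndex' inf_le_right
  have e3 : Nat.card (sigmaCore M) * (sigmaCore M).relIndex (C ⊔ sigmaCore M) =
      Nat.card (C ⊔ sigmaCore M : Subgroup G) := card_mul_relIndex' le_sup_right
  have e4 : (sigmaCore M ⊓ C).relIndex C = (sigmaCore M).relIndex (C ⊔ sigmaCore M) := by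
    have hpos : 0 < Nat.card (sigmaCore M ⊓ C : Subgroup G) * Nat.card (sigmaCore M) :=
      Nat.mul_pos Nat.card_pos Nat.card_pos
    apply Nat.eq_of_mul_eq_mul_left hpos
    calc Nat.card (sigmaCore M ⊓ C : Subgroup G) * Nat.card (sigmaCore M) *
          (sigmaCore M ⊓ C).relIndex C
        = Nat.card C * Nat.card (sigmaCore M) := by rw [← e2]; ring
      _ = Nat.card (C ⊔ sigmaCore M : Subgroup G) * Nat.card (C ⊓ sigmaCore M : Subgroup G) :=
          e1.symm
      _ = Nat.card (sigmaCore M ⊓ C : Subgroup G) * Nat.card (sigmaCore M) *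
          (sigmaCore M).relIndex (C ⊔ sigmaCore M) := by
          rw [← e3, inf_comm]; ring
  have e5 : (sigmaCore M).relIndex (C ⊔ sigmaCore M) ∣ (sigmaCore M).relIndex M :=
    Dvd.intro _ (Subgroup.relIndex_mul_relIndex (sigmaCore M) (C ⊔ sigmaCore M) M le_sup_right
      (sup_le hCM (sigmaCore_le M)))
  apply Nat.coprime_of_dvd
  intro k hk h1 h2
  have hkσ : k ∈ sigma M :=
    sigmaCore_isPi M k hk (h1.trans (Subgroup.card_dvd_of_le inf_le_left))
  rw [e4] at h2
  exact hHall.2.2 k hk hkσ (h2.trans e5)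

/-- Statement S1438 from S1350, S1351, S1352, S1359, S1374, S1417, S1430, S1431, S1432, S1437. -/
theorem s1438_core {G : Type*} [Group G] [Finite G] (hG : Cfsg.IsMinSimpleOddOrder G)
    (h1350 : type_of% (@Cfsg.CfsgFrozen.S1350 G _ _ hG))
    (h1351 : type_of% (@Cfsg.CfsgFrozen.S1351 G _ _ hG))
    (h1352 : type_of% (@Cfsg.CfsgFrozen.S1352 G _ _ hG))
    (h1359 : type_of% (@Cfsg.CfsgFrozen.S1359 G _ _ hG))
    (h1374 : type_of% (@Cfsg.CfsgFrozen.S1374 G _ _ hG))
    (h1417 : type_of% (@Cfsg.CfsgFrozen.S1417 G _ _ hG))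
    (h1430 : type_of% (@Cfsg.CfsgFrozen.S1430 G _ _ hG))
    (h1431 : type_of% (@Cfsg.CfsgFrozen.S1431 G _ _ hG))
    (h1432 : type_of% (@Cfsg.CfsgFrozen.S1432 G _ _ hG))
    (h1437 : type_of% (@Cfsg.CfsgFrozen.S1437 G _ _ hG)) :
    type_of% (@Cfsg.CfsgFrozen.S1438 G _ _ hG) := by
  classical
  intro M hM H hH hH1 hHall
  have hodd : Odd (Nat.card G) := hG.1
  have hMsolv : Group.IsSolvable M := isSolvable_of_ne_top hG hM.1
  have hσHall : IsPiHallOf (sigma M) (sigmaCore M) M := (h1350 M hM).1
  have hσM : sigmaCore M ≤ M := sigmaCore_le M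
  have hσN : M ≤ Subgroup.normalizer (sigmaCore M : Set G) := sigmaCore_normalizer M
  have hHM : H ≤ M := hH.trans hσM
  have hM1 : M ≠ ⊥ := by
    intro h
    apply hH1
    rw [eq_bot_iff, ← h]
    exact hHM
  -- the standard factorisation
  obtain ⟨⟨K, hK⟩, hKcyc⟩ := h1351 M hM
  have hKc : IsCyclic K := hKcyc K hK
  obtain ⟨⟨U, hKU⟩, -⟩ := h1352 M hM K hKc hK
  -- a non-identity element of `H`
  obtain ⟨x₀, hx₀, hx₀1⟩ := (Subgroup.ne_bot_iff_exists_ne_one (H := H)).mp hH1 |> fun ⟨a, ha⟩ =>
    (⟨(a : G), a.2, fun h => ha (Subtype.ext h)⟩ : ∃ x₀ : G, x₀ ∈ H ∧ x₀ ≠ 1)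
  constructor
  · ------------------------------------------------------------------ part (a)
    have hNC : sigmaCore M ⊓ Subgroup.centralizer (H : Set G) ≤
        M ⊓ Subgroup.centralizer (H : Set G) := inf_le_inf_right _ hσM
    have hinf : sigmaCore M ⊓ (M ⊓ Subgroup.centralizer (H : Set G)) =
        sigmaCore M ⊓ Subgroup.centralizer (H : Set G) := by
      rw [← inf_assoc, inf_eq_left.mpr hσM]
    have hcop : (Nat.card (sigmaCore M ⊓ Subgroup.centralizer (H : Set G) : Subgroup G)).Coprime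
        ((sigmaCore M ⊓ Subgroup.centralizer (H : Set G)).relIndex
          (M ⊓ Subgroup.centralizer (H : Set G))) := by
      have := coprime_card_relIndex_sigmaCore_inf hσHall
        (inf_le_left : M ⊓ Subgroup.centralizer (H : Set G) ≤ M)
      rwa [hinf] at this
    have hCN : M ⊓ Subgroup.centralizer (H : Set G) ≤ Subgroup.normalizer
        ((sigmaCore M ⊓ Subgroup.centralizer (H : Set G) : Subgroup G) : Set G) := by
      intro c hc
      rw [Subgroup.mem_normalizer_iff]
      intro h
      have h1 := Subgroup.mem_normalizer_iff.mp (hσN hc.1) h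
      have h2 : h ∈ Subgroup.centralizer (H : Set G) ↔
          c * h * c⁻¹ ∈ Subgroup.centralizer (H : Set G) := by
        constructor
        · intro hh
          exact Subgroup.mul_mem _ (Subgroup.mul_mem _ hc.2 hh) (Subgroup.inv_mem _ hc.2)
        · intro hh
          have : h = c⁻¹ * (c * h * c⁻¹) * c := by group
          rw [this]
          exact Subgroup.mul_mem _ (Subgroup.mul_mem _ (Subgroup.inv_mem _ hc.2) hh) hc.2
      rw [Subgroup.mem_inf, Subgroup.mem_inf, h1, h2]
    obtain ⟨X, hX⟩ := exists_isComplIn_of_coprime hNC hCN hcop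
    have hXC : X ≤ M ⊓ Subgroup.centralizer (H : Set G) := hX.2.1
    have hXM : X ≤ M := hXC.trans inf_le_left
    have hXcent : X ≤ Subgroup.centralizer (H : Set G) := hXC.trans inf_le_right
    have hXσ : ∀ y ∈ X, y ∈ sigmaCore M → y = 1 := by
      intro y hy hyσ
      have : y ∈ (sigmaCore M ⊓ Subgroup.centralizer (H : Set G)) ⊓ X := ⟨⟨hyσ, hXcent hy⟩, hy⟩
      rw [hX.2.2.1, Subgroup.mem_bot] at this
      exact this
    have hcommX : ∀ y ∈ X, ∀ h ∈ H, h * y = y * h := fun y hy h hh =>
      Subgroup.mem_centralizer_iff.mp (hXcent hy) h hh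
    -- every prime divisor of `|X|` is in `τ₂(M)`
    have hτ : ∀ p : ℕ, p.Prime → p ∣ Nat.card X → p ∈ tau2 M := by
      intro p hp hdvd
      have : Fact p.Prime := ⟨hp⟩
      obtain ⟨x', hx'⟩ := exists_prime_orderOf_dvd_card' p hdvd
      have hyo : orderOf (x' : G) = p := by rw [Subgroup.orderOf_coe]; exact hx'
      have hyX : (x' : G) ∈ X := x'.2
      have hy1 : (x' : G) ≠ 1 := by
        intro h
        rw [h, orderOf_one] at hyo
        exact hp.one_lt.ne hyo
      have hyM : (x' : G) ∈ M ⊓ Subgroup.centralizer ({x₀} : Set G) := by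
        refine ⟨hXM hyX, ?_⟩
        apply Subgroup.mem_centralizer_iff.mpr
        intro z hz
        rw [Set.mem_singleton_iff] at hz
        rw [hz]
        exact hcommX _ hyX x₀ hx₀
      have hpσ : p ∉ sigma M := by
        intro hpσ
        apply hy1
        apply hXσ _ hyX
        have hle : Subgroup.zpowers (x' : G) ≤ sigmaCore M := by
          apply le_sigmaCore_of_card_coprime hσHall ((Subgroup.zpowers_le).mpr (hXM hyX))
          intro r hr hrdvd
          rw [Nat.card_zpowers, hyo] at hrdvd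
          rw [(Nat.prime_dvd_prime_iff_eq hr hp).mp hrdvd]
          exact hpσ
        exact hle (Subgroup.mem_zpowers _)
      have hσ' : ∀ r : ℕ, r.Prime → r ∣ orderOf (x' : G) → r ∉ sigma M := by
        intro r hr hrdvd
        rw [hyo] at hrdvd
        rw [(Nat.prime_dvd_prime_iff_eq hr hp).mp hrdvd]
        exact hpσ
      rcases h1432 M hM x₀ (hH hx₀) hx₀1 (x' : G) hyM hy1 hσ' with ⟨hκ, -⟩ | ⟨hτ2, -, -⟩
      · exfalso
        have hpκ : p ∈ kappa M := hκ p hp (by rw [hyo])
        obtain ⟨K', hK', hyK'⟩ := exists_piHallOf_ge (kappa M) M hMsolv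
          (Subgroup.zpowers (x' : G)) ((Subgroup.zpowers_le).mpr (hXM hyX)) (by
            intro r hr hrdvd
            rw [Nat.card_zpowers, hyo] at hrdvd
            rw [(Nat.prime_dvd_prime_iff_eq hr hp).mp hrdvd]
            exact hpκ)
        have hyK : (x' : G) ∈ K' := hyK' (Subgroup.mem_zpowers _)
        have hK'1 : K' ≠ ⊥ := by
          intro h
          rw [h, Subgroup.mem_bot] at hyK
          exact hy1 hyK
        have h30 := (h1430 M hM K' hK' hK'1).1 (x' : G) hyK hy1
        have hHK : H ≤ sigmaCore M ⊓ Subgroup.centralizer (K' : Set G) := by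
          rw [← h30]
          refine le_inf hH ?_
          intro h hh
          rw [Subgroup.mem_centralizer_iff]
          intro z hz
          rw [Set.mem_singleton_iff] at hz
          rw [hz]
          exact (hcommX _ hyX h hh).symm
        have hcardH : Nat.card H ≠ 1 := fun h => hH1 (Subgroup.card_eq_one.mp h)
        obtain ⟨r, hr, hrH⟩ := Nat.exists_prime_and_dvd hcardH
        haveI : Fact r.Prime := ⟨hr⟩
        have hrK : r ∣ Nat.card ↥(sigmaCore M ⊓ Subgroup.centralizer (K' : Set G)) :=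
          hrH.trans (Subgroup.card_dvd_of_le hHK)
        have h31 := (h1431 M hM K' hK' hK'1).2.2.1 r hr hrK
        obtain ⟨R, hR, -⟩ := exists_isSylowIn_ge (p := r) (Q := ⊥) (H := H) IsPGroup.of_bot bot_le
        have hRσ : IsSylowIn r R (sigmaCore M) := by
          refine ⟨hR.1.trans hH, ?_⟩
          rw [hR.2]
          congr 1
          have e := card_mul_relIndex' hH
          rw [← e, Nat.factorization_mul Nat.card_pos.ne' (fun h0 => by
            rw [h0, mul_zero] at e; exact Nat.card_pos.ne' e.symm)]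
          have h0 : (H.relIndex (sigmaCore M)).factorization r = 0 := by
            apply Nat.factorization_eq_zero_of_not_dvd
            exact (Nat.Prime.coprime_iff_not_dvd hr).mp (Nat.Coprime.coprime_dvd_left hrH hHall)
          simp [h0]
        obtain ⟨S, hS⟩ := hRσ.exists_sylow
        apply (h31 S).2.2
        rw [hS]
        exact hR.1.trans hHK
      · exact hτ2 p hp (by rw [hyo])
    -- `X` is abelian
    have hUhall : IsPiHallOf {q | q.Prime ∧ q ∉ kappa M ∧ q ∉ sigma M} U M :=
      isPiHallOf_of_sigmaDecomposition hσHall hKU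
    have h59 := h1359 M hM K U hKU
    obtain ⟨U', hU', hXU'⟩ := exists_piHallOf_ge {q | q.Prime ∧ q ∉ kappa M ∧ q ∉ sigma M} M
      hMsolv X hXM (fun p hp hdvd =>
        ⟨hp, not_mem_kappa_of_mem_tau2 (hτ p hp hdvd), (hτ p hp hdvd).2.1⟩)
    obtain ⟨m, hm, hU'eq⟩ := exists_conj_of_isPiHallOf hMsolv hUhall hU'
    have hXab : ∀ a ∈ X, ∀ b ∈ X, a * b = b * a := by
      have hmem : ∀ a ∈ X, m⁻¹ * a * m ∈ Subgroup.closure ((U : Set G) ∩ sigmaHat M) := by
        intro a ha
        apply Subgroup.subset_closure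
        refine ⟨?_, ?_, m⁻¹ * x₀ * m, ?_, ?_, ?_⟩
        · have h1 : a ∈ U.map (MulAut.conj m).toMonoidHom := by rw [← hU'eq]; exact hXU' ha
          exact mem_map_conj_iff.mp h1
        · exact M.mul_mem (M.mul_mem (M.inv_mem hm) (hXM ha)) hm
        · have h1 : m⁻¹ ∈ Subgroup.normalizer (sigmaCore M : Set G) := hσN (M.inv_mem hm)
          have h2 := (Subgroup.mem_normalizer_iff.mp h1 x₀).mp (hH hx₀)
          rwa [inv_inv] at h2
        · intro h
          apply hx₀1
          have : x₀ = m * (m⁻¹ * x₀ * m) * m⁻¹ := by group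
          rw [this, h]; group
        · have h1 := hcommX a ha x₀ hx₀
          calc m⁻¹ * a * m * (m⁻¹ * x₀ * m) = m⁻¹ * (a * x₀) * m := by group
            _ = m⁻¹ * (x₀ * a) * m := by rw [h1]
            _ = m⁻¹ * x₀ * m * (m⁻¹ * a * m) := by group
      intro a ha b hb
      have h1 := (isMulCommutative_subgroup_iff.mp h59) _ (hmem a ha) _ (hmem b hb)
      have h2 : a * b = m * ((m⁻¹ * a * m) * (m⁻¹ * b * m)) * m⁻¹ := by group
      have h3 : b * a = m * ((m⁻¹ * b * m) * (m⁻¹ * a * m)) * m⁻¹ := by group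
      rw [h2, h3, h1]
    have hXnil : Group.IsNilpotent X := by
      let _ : CommGroup ↥X :=
        { (inferInstance : Group ↥X) with
          mul_comm := fun a b => Subtype.ext (hXab a a.2 b b.2) }
      exact CommGroup.isNilpotent
    -- `X` has `p`-rank at most one for every prime `p`
    have hrank : ∀ p : ℕ, p.Prime → p ∣ Nat.card X → PRankLE p 1 X := by
      intro p hp hdvd A hAc hAp
      haveI : Fact p.Prime := ⟨hp⟩
      by_contra hlt
      rw [not_le, pow_one] at hlt
      have hAP : IsPGroup p A := by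
        intro a
        refine ⟨1, ?_⟩
        rw [pow_one]
        exact Subtype.ext (hAp a a.2)
      obtain ⟨k, hk⟩ := IsPGroup.iff_card.mp hAP
      have hk2 : 2 ≤ k := by
        by_contra hk2
        have hk1 : k ≤ 1 := by omega
        have : p ^ k ≤ p ^ 1 := Nat.pow_le_pow_right hp.pos hk1
        rw [pow_one] at this
        omega
      have hdvd2 : p ^ 2 ∣ Nat.card A := by rw [hk]; exact pow_dvd_pow p hk2
      obtain ⟨A₂, hA₂⟩ := Sylow.exists_subgroup_card_pow_prime p hdvd2
      obtain ⟨B, hBdef⟩ : ∃ B : Subgroup G, B = ((A₂.map A.subtype).map X.subtype) := ⟨_, rfl⟩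
      have hBcard : Nat.card B = p ^ 2 := by
        rw [hBdef, Subgroup.card_map_of_injective X.subtype_injective,
          Subgroup.card_map_of_injective A.subtype_injective, hA₂]
      have hBX : B ≤ X := by rw [hBdef]; exact Subgroup.map_subtype_le _
      have hBA : ∀ b ∈ B, ∃ a : X, a ∈ A ∧ (a : G) = b := by
        intro b hb
        rw [hBdef] at hb
        obtain ⟨a, ⟨a', -, rfl⟩, rfl⟩ := hb
        exact ⟨A.subtype a', a'.2, rfl⟩
      have hBea : IsElementaryAbelian p B := by
        refine ⟨isMulCommutative_subgroup_iff.mpr ?_, ?_⟩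
        · intro b₁ hb₁ b₂ hb₂
          obtain ⟨a₁, ha₁, rfl⟩ := hBA b₁ hb₁
          obtain ⟨a₂, ha₂, rfl⟩ := hBA b₂ hb₂
          have := (isMulCommutative_subgroup_iff.mp hAc) a₁ ha₁ a₂ ha₂
          exact congrArg Subtype.val this
        · intro b hb
          obtain ⟨a, ha, rfl⟩ := hBA b hb
          have := hAp a ha
          exact congrArg Subtype.val this
      have h17 := (h1417 M hM p (hτ p hp hdvd) B ⟨hBX.trans hXM, hBea, hBcard⟩).2.2.2.1
      apply hH1
      rw [eq_bot_iff, ← h17]
      refine le_inf hH ?_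
      rw [Subgroup.le_centralizer_iff]
      exact hBX.trans hXcent
    have hXcyc : IsCyclic X :=
      Cfsg.Agent.Lib.Helper75.BG.isCyclic_of_nilpotent_rank_one hodd X X le_rfl hXnil hrank
    refine ⟨X, hXcyc, hτ, ?_⟩
    apply le_antisymm
    · intro c hc
      obtain ⟨a, ha, b, hb, hab⟩ := hX.2.2.2 c hc
      rw [hab]
      exact Subgroup.mul_mem _ (Subgroup.mem_sup_left ha) (Subgroup.mem_sup_right hb)
    · exact sup_le hNC hXC
  · ------------------------------------------------------------------ part (b)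
    intro x hx g hgx
    by_cases hx1 : x = 1
    · refine ⟨1, ⟨M.one_mem, Subgroup.one_mem _⟩, ?_⟩
      rw [hx1]; group
    -- reduce to fusion by an element of `M`
    obtain ⟨-, R, -, hRcompl, hRuniq⟩ := h1374 M hM x (hH hx) hx1
    have hxg : x ∈ M.map (MulAut.conj g⁻¹).toMonoidHom := by
      rw [mem_map_conj_iff, inv_inv]
      exact hHM hgx
    obtain ⟨r, ⟨hrR, hrM⟩, -⟩ := hRuniq g⁻¹ hxg
    have hrx : x * r = r * x := by
      have h1 : r ∈ Subgroup.centralizer ({x} : Set G) := hRcompl.2.1 hrR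
      exact Subgroup.mem_centralizer_iff.mp h1 x (Set.mem_singleton x)
    have hgrN : g * r ∈ Subgroup.normalizer (M : Set G) := by
      apply mem_normalizer_of_map_conj_eq
      rw [← map_conj_mul, hrM, map_conj_mul, mul_inv_cancel, map_conj_one]
    have hgrM : g * r ∈ M := by
      rw [Cfsg.Agent.Lib.Helper65.BG.normalizer_coatom_eq hG M hM hM1] at hgrN
      exact hgrN
    have hconj : g * r * x * (g * r)⁻¹ = g * x * g⁻¹ := by
      calc g * r * x * (g * r)⁻¹ = g * (r * x) * r⁻¹ * g⁻¹ := by group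
        _ = g * (x * r) * r⁻¹ * g⁻¹ := by rw [hrx]
        _ = g * x * g⁻¹ := by group
    have hxm : g * r * x * (g * r)⁻¹ ∈ H := by rw [hconj]; exact hgx
    rw [← hconj]
    by_cases hF : fittingHallOf M = sigmaCore M
    · -- `M_σ` nilpotent
      have hnil : Group.IsNilpotent (sigmaCore M) := by
        have h1 : Group.IsNilpotent (fittingHall ↥M) :=
          Cfsg.Agent.Lib.Helper4.CN.fittingHall_nilpotent ↥M
        have h2 : Group.IsNilpotent (fittingHallOf M) :=
          Group.nilpotent_of_mulEquiv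
            ((fittingHall ↥M).equivMapOfInjective M.subtype M.subtype_injective)
        rw [← hF]
        exact h2
      haveI : Fact (Nat.Prime 3) := ⟨Nat.prime_three⟩
      have hMbot : M ≤ Subgroup.normalizer ((⊥ : Subgroup G) : Set G) := by
        intro a _
        rw [Subgroup.mem_normalizer_iff]
        intro h
        rw [Subgroup.mem_bot, Subgroup.mem_bot]
        exact conj_eq_one_iff.symm
      have hcompl : IsComplIn (⊥ : Subgroup G) (sigmaCore M) (sigmaCore M) :=
        ⟨bot_le, le_rfl, bot_inf_eq _, fun s hs => ⟨1, Subgroup.one_mem _, s, hs, (one_mul s).symm⟩⟩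
      exact hall_fusion_of_normal_pgroup (q := 3) hMsolv hσM hσN hMbot IsPGroup.of_bot hcompl hnil
        hH hHall hx hgrM hxm
    · obtain ⟨-, -, -, hqp, -, -, Q, hQF, hMQ, hQq, hQsyl, hD⟩ := h1437 M hM K U hKU hF
      haveI : Fact (Nat.card ↥(sigmaCore M ⊓ Subgroup.centralizer (K : Set G))).Prime := ⟨hqp⟩
      have hQσ : Q ≤ sigmaCore M := hQF.trans (fittingHallOf_le_sigmaCore hG M hM)
      have hcopQ : (Nat.card Q).Coprime (Q.relIndex (sigmaCore M)) := by
        obtain ⟨k, hk⟩ := IsPGroup.iff_card.mp hQq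
        rw [hk]
        exact Nat.Coprime.pow_left k ((Nat.Prime.coprime_iff_not_dvd hqp).mpr hQsyl)
      obtain ⟨D, hD0⟩ := exists_isComplIn_of_coprime hQσ (hσM.trans hMQ) hcopQ
      exact hall_fusion_of_normal_pgroup hMsolv hσM hσN hMQ hQq hD0 (hD D hD0).1
        hH hHall hx hgrM hxm

end Cfsg.Agent.Lib.Helper57.BG
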