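import Mathlib
import Cfsg.Prelude.Def_OddOrderLocal
import Cfsg.Statements.S1350
import Cfsg.Statements.S1351
import Cfsg.Statements.S1352
import Cfsg.Statements.S1361
import Cfsg.Statements.S1375
import Cfsg.Statements.S1378
import Cfsg.Statements.S1379
import Cfsg.Statements.S1391
import Cfsg.Statements.S1403
import Cfsg.Statements.S1436
import Cfsg.Statements.S1539
import Cfsg.Agent.Lib.Helper62.BG.S1362Core
import Cfsg.Agent.Lib.Helper65.BG.S1407Core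
import Cfsg.Agent.Lib.Helper75.BGUtil
import Cfsg.Agent.Lib.Helper85.BG.Conj
import Cfsg.Agent.Lib.Helper76.BG.PolyTilde
import Cfsg.Agent.Lib.Helper27.BG.SigmaBasic
import Cfsg.Agent.Lib.Helper67.BG.Basics
import Cfsg.Agent.Lib.Helper44.BG.S1374Core
import Cfsg.Agent.Lib.Helper35.BG.Basic

/-!
Core of S1539 (Peterfalvi (8.17)): for non-conjugate maximal subgroups `S`, `T` of a minimal simple
group of odd order, `T` supports `S` iff `A₁(S)` meets `A(T)`, etc.  Derived from the frozen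
statements S1350, S1351, S1352, S1361, S1375, S1378, S1379, S1391, S1403, S1436 together with the
translations `M_s = M_σ` and `A(M) = (M̂_σ ∩ U M_σ) \ {1}` (packages TR1, TR2 of the S1391 project).
-/

set_option autoImplicit false

namespace Cfsg.Agent.Lib.Helper57.BG

open Cfsg
open scoped Pointwise

universe u

variable {G : Type u} [Group G]

/-- Existence of a standard factorisation. -/
theorem exists_sigmaDecomposition_of [Finite G] (hG : IsMinSimpleOddOrder G)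
    (h1351 : type_of% (@Cfsg.CfsgFrozen.S1351 G _ _ hG))
    (h1352 : type_of% (@Cfsg.CfsgFrozen.S1352 G _ _ hG))
    (M : Subgroup G) (hM : IsCoatom M) : ∃ K U : Subgroup G, IsSigmaDecomposition M K U := by
  obtain ⟨⟨K, hK⟩, hKc⟩ := h1351 M hM
  obtain ⟨⟨U, hU⟩, -⟩ := h1352 M hM K (hKc K hK) hK
  exact ⟨K, U, hU⟩

/-- Conjugates of a standard factorisation. -/
theorem isSigmaDecomposition_map_conj_all [Finite G] (hodd : Odd (Nat.card G)) {M K U : Subgroup G}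
    (h : IsSigmaDecomposition M K U) (g : G) :
    IsSigmaDecomposition (M.map (MulAut.conj g).toMonoidHom) (K.map (MulAut.conj g).toMonoidHom)
      (U.map (MulAut.conj g).toMonoidHom) := by
  obtain ⟨hcyc, hhall, hcompl, hnorm⟩ := h
  refine ⟨?_, ?_, ?_, ?_⟩
  · have e : K ≃* K.map (MulAut.conj g).toMonoidHom :=
      K.equivMapOfInjective _ (MulAut.conj g).injective
    exact isCyclic_of_surjective e.toMonoidHom e.surjective
  · rw [Cfsg.Agent.Lib.Helper85.BG.kappa_map_conj hodd]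
    exact Cfsg.Agent.Lib.Helper85.BG.isPiHallOf_map_conj hhall g
  · rw [Cfsg.Agent.Lib.Helper85.BG.sigmaCore_map_conj, ← Subgroup.map_sup]
    obtain ⟨h1, h2, h3, h4⟩ := hcompl
    refine ⟨Subgroup.map_mono h1, Subgroup.map_mono h2, ?_, ?_⟩
    · rw [eq_bot_iff]
      intro x hx
      have hx1 := Cfsg.Agent.Lib.Helper35.BG.mem_map_conj_iff.mp hx.1
      have hx2 := Cfsg.Agent.Lib.Helper35.BG.mem_map_conj_iff.mp hx.2
      have hx3 : g⁻¹ * x * g ∈ U ⊓ (K ⊔ sigmaCore M) := ⟨hx1, hx2⟩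
      rw [h3, Subgroup.mem_bot] at hx3
      rw [Subgroup.mem_bot]
      have e : x = g * (g⁻¹ * x * g) * g⁻¹ := by group
      rw [e, hx3]
      group
    · intro m hm
      obtain ⟨a, ha, b, hb, hab⟩ := h4 _ (Cfsg.Agent.Lib.Helper35.BG.mem_map_conj_iff.mp hm)
      refine ⟨g * a * g⁻¹, Cfsg.Agent.Lib.Helper35.BG.conj_mem_map_conj g ha, g * b * g⁻¹,
        Cfsg.Agent.Lib.Helper35.BG.conj_mem_map_conj g hb, ?_⟩
      have e : m = g * (g⁻¹ * m * g) * g⁻¹ := by group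
      rw [e, hab]
      group
  · rw [Cfsg.Agent.Lib.Helper35.BG.normalizer_map_conj]
    exact Subgroup.map_mono hnorm

/-- Conjugates of elements of `A(M)` (σ-language). -/
theorem conj_mem_sigmaA_map_conj [Finite G] {M U : Subgroup G} {a : G} (ha : a ∈ sigmaA M U)
    (g : G) :
    g * a * g⁻¹ ∈ sigmaA (M.map (MulAut.conj g).toMonoidHom) (U.map (MulAut.conj g).toMonoidHom) := by
  obtain ⟨⟨haM, y, hy, hy1, hay⟩, haU⟩ := ha
  refine ⟨⟨Cfsg.Agent.Lib.Helper35.BG.conj_mem_map_conj g haM, g * y * g⁻¹, ?_, ?_, ?_⟩, ?_⟩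
  · rw [Cfsg.Agent.Lib.Helper85.BG.sigmaCore_map_conj]
    exact Cfsg.Agent.Lib.Helper35.BG.conj_mem_map_conj g hy
  · exact Cfsg.Agent.Lib.Helper85.BG.conj_ne_one hy1
  · calc g * a * g⁻¹ * (g * y * g⁻¹) = g * (a * y) * g⁻¹ := by group
      _ = g * (y * a) * g⁻¹ := by rw [hay]
      _ = g * y * g⁻¹ * (g * a * g⁻¹) := by group
  · show g * a * g⁻¹ ∈ U.map (MulAut.conj g).toMonoidHom ⊔
      sigmaCore (M.map (MulAut.conj g).toMonoidHom)
    rw [Cfsg.Agent.Lib.Helper85.BG.sigmaCore_map_conj, ← Subgroup.map_sup]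
    exact Cfsg.Agent.Lib.Helper35.BG.conj_mem_map_conj g haU

/-- The translations of the S1391 project, as hypotheses on the group `G`. -/
def TR1Hyp (G : Type u) [Group G] : Prop :=
  ∀ M : Subgroup G, IsCoatom M → typeCore M = sigmaCore M

def TR2Hyp (G : Type u) [Group G] : Prop :=
  ∀ M : Subgroup G, IsCoatom M → ∀ K U : Subgroup G, IsSigmaDecomposition M K U →
    typeA M = sigmaA M U \ {1}

theorem mem_typeA1_iff_of_TR1 (hTR1 : TR1Hyp G) {M : Subgroup G} (hM : IsCoatom M) {x : G} :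
    x ∈ typeA1 M ↔ x ∈ sigmaCore M ∧ x ≠ 1 := by
  unfold typeA1
  rw [hTR1 M hM]
  constructor
  · rintro ⟨h1, h2⟩
    exact ⟨h1, fun h => h2 (by rw [h]; exact Set.mem_singleton _)⟩
  · rintro ⟨h1, h2⟩
    exact ⟨h1, fun h => h2 (Set.mem_singleton_iff.mp h)⟩

theorem typeA1_eq_of_TR1 (hTR1 : TR1Hyp G) {M : Subgroup G} (hM : IsCoatom M) :
    typeA1 M = (sigmaCore M : Set G) \ {1} := by
  unfold typeA1
  rw [hTR1 M hM]

theorem mem_typeA_iff_of_TR2 (hTR2 : TR2Hyp G) {M K U : Subgroup G} (hM : IsCoatom M)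
    (hKU : IsSigmaDecomposition M K U) {x : G} :
    x ∈ typeA M ↔ x ∈ sigmaA M U ∧ x ≠ 1 := by
  rw [hTR2 M hM K U hKU]
  constructor
  · rintro ⟨h1, h2⟩
    exact ⟨h1, fun h => h2 (by rw [h]; exact Set.mem_singleton _)⟩
  · rintro ⟨h1, h2⟩
    exact ⟨h1, fun h => h2 (Set.mem_singleton_iff.mp h)⟩

/-- Conjugates of elements of `A(M)`. -/
theorem conj_mem_typeA_map_conj [Finite G] (hG : IsMinSimpleOddOrder G)
    (h1351 : type_of% (@Cfsg.CfsgFrozen.S1351 G _ _ hG))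
    (h1352 : type_of% (@Cfsg.CfsgFrozen.S1352 G _ _ hG))
    (hTR2 : TR2Hyp G) {T : Subgroup G} (hT : IsCoatom T) {a : G} (ha : a ∈ typeA T) (c : G) :
    c * a * c⁻¹ ∈ typeA (T.map (MulAut.conj c).toMonoidHom) := by
  obtain ⟨K, U, hKU⟩ := exists_sigmaDecomposition_of hG h1351 h1352 T hT
  have hKU' := isSigmaDecomposition_map_conj_all hG.1 hKU c
  have hT' := Cfsg.Agent.Lib.Helper85.BG.isCoatom_map_conj hT c
  obtain ⟨h1, h2⟩ := (mem_typeA_iff_of_TR2 hTR2 hT hKU).mp ha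
  exact (mem_typeA_iff_of_TR2 hTR2 hT' hKU').mpr
    ⟨conj_mem_sigmaA_map_conj h1 c, Cfsg.Agent.Lib.Helper85.BG.conj_ne_one h2⟩

/-- `A₁(M) ⊆ A(M)`. -/
theorem typeA1_subset_typeA_of_TR [Finite G] (hG : IsMinSimpleOddOrder G)
    (h1351 : type_of% (@Cfsg.CfsgFrozen.S1351 G _ _ hG))
    (h1352 : type_of% (@Cfsg.CfsgFrozen.S1352 G _ _ hG))
    (hTR1 : TR1Hyp G) (hTR2 : TR2Hyp G) {M : Subgroup G} (hM : IsCoatom M) {x : G}
    (hx : x ∈ typeA1 M) : x ∈ typeA M := by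
  obtain ⟨K, U, hKU⟩ := exists_sigmaDecomposition_of hG h1351 h1352 M hM
  obtain ⟨h1, h2⟩ := (mem_typeA1_iff_of_TR1 hTR1 hM).mp hx
  refine (mem_typeA_iff_of_TR2 hTR2 hM hKU).mpr ⟨⟨⟨?_, x, h1, h2, rfl⟩, ?_⟩, h2⟩
  · exact Cfsg.Agent.Lib.Helper67.BG.sigmaCore_le M h1
  · exact (le_sup_right : sigmaCore M ≤ U ⊔ sigmaCore M) h1

/-- The key centralizer lemma: `x ∈ S_σ^#` lying in `A(T)`, `σ(S) ∩ σ(T) = ∅`. -/
theorem centralizer_of_mem_sigmaCore_of_mem_sigmaA [Finite G] (hG : IsMinSimpleOddOrder G)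
    (h1361 : type_of% (@Cfsg.CfsgFrozen.S1361 G _ _ hG))
    (h1375 : type_of% (@Cfsg.CfsgFrozen.S1375 G _ _ hG))
    {S T : Subgroup G} (hS : IsCoatom S) (hT : IsCoatom T) (hne : S ≠ T)
    (hdisj : ∀ p : ℕ, p ∈ sigma S → p ∉ sigma T) {K U : Subgroup G}
    (hKU : IsSigmaDecomposition T K U) {x : G} (hx : x ∈ sigmaCore S) (hx1 : x ≠ 1)
    (hxA : x ∈ sigmaA T U) :
    ¬ Subgroup.centralizer ({x} : Set G) ≤ S ∧ Subgroup.centralizer ({x} : Set G) ≤ T := by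
  have ho1 : orderOf x ≠ 1 := fun h => hx1 (orderOf_eq_one_iff.mp h)
  obtain ⟨r, hr, hrdvd⟩ := Nat.exists_prime_and_dvd ho1
  have hrS : r ∈ sigma S := Cfsg.Agent.Lib.Helper67.BG.sigmaCore_isPi S r hr
    (hrdvd.trans (Subgroup.orderOf_dvd_natCard _ hx))
  have hrT : r ∉ sigma T := hdisj r hrS
  obtain ⟨hkT, hkU⟩ := Cfsg.Agent.Lib.Helper62.BG.key_step hG h1361 T hT K U hKU hxA hr hrdvd hrT
  have hbr : orderOf (x ^ (orderOf x / r)) = r :=
    orderOf_pow_orderOf_div (orderOf_pos x).ne' hrdvd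
  have hb1 : x ^ (orderOf x / r) ≠ 1 := by
    intro h
    rw [h, orderOf_one] at hbr
    exact hr.one_lt.ne hbr
  have hbS : x ^ (orderOf x / r) ∈ sigmaCore S := Subgroup.pow_mem _ hx _
  have hcomm : ∀ c : G, c * x = x * c →
      c * x ^ (orderOf x / r) = x ^ (orderOf x / r) * c := by
    intro c hc
    exact ((show Commute c x from hc).pow_right _).eq
  refine ⟨?_, ?_⟩
  · intro hCS
    obtain ⟨⟨hxT, y, hy, hy1, hxy⟩, -⟩ := hxA
    by_cases hbS' : Subgroup.centralizer ({x ^ (orderOf x / r)} : Set G) ≤ S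
    · apply hne
      exact hkU S hS (fun c hc => hbS' (Subgroup.mem_centralizer_singleton_iff.mpr hc))
    · obtain ⟨N, ⟨hN, hbN⟩, -, -, -, hcompl, -, -⟩ := h1375 S hS _ hbS hb1 hbS'
      have hNT : N = T :=
        hkU N hN (fun c hc => hbN (Subgroup.mem_centralizer_singleton_iff.mpr hc))
      have hyx : y * x = x * y := hxy.symm
      have hyCb : y ∈ Subgroup.centralizer ({x ^ (orderOf x / r)} : Set G) :=
        Subgroup.mem_centralizer_singleton_iff.mpr (hcomm y hyx)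
      have hyS : y ∈ S := hCS (Subgroup.mem_centralizer_singleton_iff.mpr hyx)
      have hyN : y ∈ sigmaCore N := by rw [hNT]; exact hy
      have hmem : y ∈ (S ⊓ Subgroup.centralizer ({x ^ (orderOf x / r)} : Set G)) ⊓
          (sigmaCore N ⊓ Subgroup.centralizer ({x ^ (orderOf x / r)} : Set G)) :=
        ⟨⟨hyS, hyCb⟩, ⟨hyN, hyCb⟩⟩
      rw [hcompl.2.2.1, Subgroup.mem_bot] at hmem
      exact hy1 hmem
  · intro c hc
    exact hkT c (hcomm c (Subgroup.mem_centralizer_singleton_iff.mp hc))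

/-- Non-conjugate maximal subgroups have disjoint `σ`. -/
theorem sigma_disjoint_of_not_conj [Finite G] (hG : IsMinSimpleOddOrder G)
    (h1378 : type_of% (@Cfsg.CfsgFrozen.S1378 G _ _ hG))
    {S T : Subgroup G} (hS : IsCoatom S) (hT : IsCoatom T)
    (hnc : ∀ g : G, T.map (MulAut.conj g).toMonoidHom ≠ S) :
    ∀ p : ℕ, p ∈ sigma S → p ∉ sigma T := by
  intro p hpS hpT
  obtain ⟨g, hg⟩ := h1378.2 T S hT hS ⟨p, hpT, hpS⟩
  exact hnc g hg.symm

/-- Parts (1) and (2) of S1539. -/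
theorem supports_iff_of_not_conj [Finite G] (hG : IsMinSimpleOddOrder G)
    (h1351 : type_of% (@Cfsg.CfsgFrozen.S1351 G _ _ hG))
    (h1352 : type_of% (@Cfsg.CfsgFrozen.S1352 G _ _ hG))
    (h1361 : type_of% (@Cfsg.CfsgFrozen.S1361 G _ _ hG))
    (h1375 : type_of% (@Cfsg.CfsgFrozen.S1375 G _ _ hG))
    (h1378 : type_of% (@Cfsg.CfsgFrozen.S1378 G _ _ hG))
    (h1391 : type_of% (@Cfsg.CfsgFrozen.S1391 G _ _ hG))
    (hTR1 : TR1Hyp G) (hTR2 : TR2Hyp G)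
    {S T : Subgroup G} (hS : IsCoatom S) (hT : IsCoatom T)
    (hnc : ∀ g : G, T.map (MulAut.conj g).toMonoidHom ≠ S) :
    (Supports T S ↔ (typeA1 S ∩ typeA T).Nonempty) ∧
      (∀ x ∈ typeA1 S ∩ typeA T, ¬ Subgroup.centralizer ({x} : Set G) ≤ S ∧
        Subgroup.centralizer ({x} : Set G) ≤ T) := by
  have hne : S ≠ T := fun h =>
    hnc 1 (by rw [Cfsg.Agent.Lib.Helper35.BG.map_conj_one]; exact h.symm)
  have hdisj := sigma_disjoint_of_not_conj hG h1378 hS hT hnc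
  obtain ⟨K, U, hKU⟩ := exists_sigmaDecomposition_of hG h1351 h1352 T hT
  have h2 : ∀ x ∈ typeA1 S ∩ typeA T, ¬ Subgroup.centralizer ({x} : Set G) ≤ S ∧
      Subgroup.centralizer ({x} : Set G) ≤ T := by
    rintro x ⟨hx1, hx2⟩
    obtain ⟨hxS, hxne⟩ := (mem_typeA1_iff_of_TR1 hTR1 hS).mp hx1
    obtain ⟨hxA, -⟩ := (mem_typeA_iff_of_TR2 hTR2 hT hKU).mp hx2
    exact centralizer_of_mem_sigmaCore_of_mem_sigmaA hG h1361 h1375 hS hT hne hdisj hKU hxS hxne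
      hxA
  refine ⟨⟨?_, ?_⟩, h2⟩
  · rintro ⟨-, x, hx0, hxS, hxT⟩
    obtain ⟨-, hb, hc⟩ := h1391 S hS (typeA0 S) (Or.inr rfl)
    exact ⟨x, (hb x hx0 hxS).1, (hc x hx0 hxS T hT hxT).2.2.2.2.1.1⟩
  · rintro ⟨x, hx⟩
    obtain ⟨h3, h4⟩ := h2 x hx
    refine ⟨hT, x, ?_, h3, h4⟩
    unfold typeA0
    exact Or.inl (typeA1_subset_typeA_of_TR hG h1351 h1352 hTR1 hTR2 hS hx.1)

/-- Commuting elements of coprime orders: the first is a power of the product. -/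
theorem exists_pow_mul_eq_left_of_coprime [Finite G] {a r : G} (hc : Commute a r)
    (hcop : (orderOf a).Coprime (orderOf r)) : ∃ k : ℕ, (a * r) ^ k = a := by
  by_cases h1 : orderOf a = 1
  · refine ⟨0, ?_⟩
    rw [pow_zero]
    exact (orderOf_eq_one_iff.mp h1).symm
  · have hpos : 0 < orderOf a := orderOf_pos a
    have hlt : 1 < orderOf a := by omega
    obtain ⟨m, -, hm⟩ := Nat.exists_mul_mod_eq_one_of_coprime hcop.symm hlt
    refine ⟨orderOf r * m, ?_⟩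
    rw [pow_mul, hc.mul_pow, pow_orderOf_eq_one, mul_one, ← pow_mul, ← pow_mod_orderOf, hm,
      pow_one]

/-- No element of prime order outside `σ(M)` centralizes a non-identity element of `M_σ` when
`κ(M)` and `τ₂(M)` are empty (as in helper11's `lemCop`). -/
theorem no_prime_centralizer_of_kappa_tau2_empty [Finite G] (hG : IsMinSimpleOddOrder G)
    (h1403 : type_of% (@Cfsg.CfsgFrozen.S1403 G _ _ hG)) {M : Subgroup G} (hM : IsCoatom M)
    (hkap : kappa M = ∅) (htau2 : tau2 M = ∅) {c : G} (hc : c ∈ M) {r : ℕ} (hr : r.Prime)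
    (hcr : orderOf c = r) (hrs : r ∉ sigma M) (z : G) (hz : z ∈ sigmaCore M) (hz1 : z ≠ 1)
    (hcz : c * z = z * c) : False := by
  have hoddG : Odd (Nat.card G) := hG.1
  have : Fact r.Prime := ⟨hr⟩
  have hrM : r ∣ Nat.card M := by
    have h1 := orderOf_dvd_natCard (⟨c, hc⟩ : ↥M)
    rwa [Subgroup.orderOf_mk, hcr] at h1
  have hr2 : r ≠ 2 := by
    intro h2
    have h3 : (2 : ℕ) ∣ Nat.card G := by
      rw [← h2]
      exact hrM.trans (Subgroup.card_subgroup_dvd_card M)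
    exact (Nat.not_even_iff_odd.mpr hoddG) (even_iff_two_dvd.mpr h3)
  have hr1 : PRankLE r 1 ↥M := by
    have hnα : r ∉ alpha M := fun h =>
      hrs (Cfsg.Agent.Lib.Helper65.BG.alpha_subset_sigma hG h1403 M hM h)
    have h2 : PRankLE r 2 ↥M := by
      by_contra h
      exact hnα ⟨hr, h⟩
    by_contra h1
    have h3 : r ∈ tau2 M := ⟨hr, hrs, h2, h1⟩
    rw [htau2] at h3
    exact h3
  have hrk : r ∈ kappa M := by
    refine ⟨hr, hrM, hrs, ?_⟩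
    intro P
    refine ⟨Cfsg.Agent.Lib.Helper75.BG.isCyclic_sylow_of_rank_one M M le_rfl r hr2 hr1 P, ?_⟩
    have hcp : IsPGroup r (Subgroup.zpowers (⟨c, hc⟩ : ↥M)) := by
      apply IsPGroup.of_card (n := 1)
      rw [Nat.card_zpowers, Subgroup.orderOf_mk, hcr, pow_one]
    obtain ⟨P0, hP0⟩ := hcp.exists_le_sylow
    obtain ⟨m, hm⟩ := MulAction.exists_smul_eq ↥M P0 P
    have h1 : (MulAut.conj m) • (⟨c, hc⟩ : ↥M) ∈ (MulAut.conj m) • (P0 : Subgroup ↥M) :=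
      Subgroup.smul_mem_pointwise_smul _ _ _ (hP0 (Subgroup.mem_zpowers _))
    have h2 : ((m • P0 : Sylow r ↥M) : Subgroup ↥M) = (MulAut.conj m) • (P0 : Subgroup ↥M) :=
      Sylow.pointwise_smul_def
    rw [← hm]
    refine ⟨m * ⟨c, hc⟩ * m⁻¹, ?_, ?_, (m : G) * z * (m : G)⁻¹, ?_, ?_, ?_⟩
    · show m * ⟨c, hc⟩ * m⁻¹ ∈ ((m • P0 : Sylow r ↥M) : Subgroup ↥M)
      rw [h2]
      exact h1
    · intro h
      have h3 : (⟨c, hc⟩ : ↥M) = 1 := by
        have h4 : (⟨c, hc⟩ : ↥M) = m⁻¹ * (m * ⟨c, hc⟩ * m⁻¹) * m := by group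
        rw [h4, h, mul_one, inv_mul_cancel]
      have h5 : c = 1 := congrArg Subtype.val h3
      rw [h5, orderOf_one] at hcr
      exact hr.one_lt.ne hcr
    · exact (Subgroup.mem_normalizer_iff.mp
        (Cfsg.Agent.Lib.Helper67.BG.sigmaCore_normalizer M m.2) z).mp hz
    · intro h
      apply hz1
      have h4 : z = (m : G)⁻¹ * ((m : G) * z * (m : G)⁻¹) * (m : G) := by group
      rw [h4, h, mul_one, inv_mul_cancel]
    · show (m : G) * c * (m : G)⁻¹ * ((m : G) * z * (m : G)⁻¹)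
          = (m : G) * z * (m : G)⁻¹ * ((m : G) * c * (m : G)⁻¹)
      calc (m : G) * c * (m : G)⁻¹ * ((m : G) * z * (m : G)⁻¹)
          = (m : G) * (c * z) * (m : G)⁻¹ := by group
        _ = (m : G) * (z * c) * (m : G)⁻¹ := by rw [hcz]
        _ = (m : G) * z * (m : G)⁻¹ * ((m : G) * c * (m : G)⁻¹) := by group
  rw [hkap] at hrk
  exact hrk

/-- The heart of part (3): a common element of the two cosets forces `T₁` to support `S`. -/
theorem supports_of_coset_eq [Finite G] (hG : IsMinSimpleOddOrder G)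
    (h1350 : type_of% (@Cfsg.CfsgFrozen.S1350 G _ _ hG))
    (h1351 : type_of% (@Cfsg.CfsgFrozen.S1351 G _ _ hG))
    (h1352 : type_of% (@Cfsg.CfsgFrozen.S1352 G _ _ hG))
    (h1361 : type_of% (@Cfsg.CfsgFrozen.S1361 G _ _ hG))
    (h1375 : type_of% (@Cfsg.CfsgFrozen.S1375 G _ _ hG))
    (h1378 : type_of% (@Cfsg.CfsgFrozen.S1378 G _ _ hG))
    (h1379 : type_of% (@Cfsg.CfsgFrozen.S1379 G _ _ hG))
    (h1391 : type_of% (@Cfsg.CfsgFrozen.S1391 G _ _ hG))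
    (hTR1 : TR1Hyp G) (hTR2 : TR2Hyp G)
    {S T₁ : Subgroup G} (hS : IsCoatom S) (hT₁ : IsCoatom T₁)
    (hnc : ∀ g : G, T₁.map (MulAut.conj g).toMonoidHom ≠ S)
    {a₁ r₁ a₂ r₂ : G} (ha₁ : a₁ ∈ typeA1 S) (hr₁ : r₁ ∈ supportR S a₁)
    (ha₂ : a₂ ∈ typeA T₁) (hr₂ : r₂ ∈ supportR T₁ a₂) (hw : a₁ * r₁ = a₂ * r₂) :
    Supports T₁ S := by
  by_cases hC2 : Subgroup.centralizer ({a₂} : Set G) ≤ T₁
  · have hr2' : r₂ = 1 := by
      rw [Cfsg.Agent.Lib.Helper76.BG.supportR_eq_bot_of_le hC2, Subgroup.mem_bot] at hr₂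
      exact hr₂
    rw [hr2', mul_one] at hw
    suffices h : a₁ ∈ typeA T₁ from
      ((supports_iff_of_not_conj hG h1351 h1352 h1361 h1375 h1378 h1391 hTR1 hTR2 hS hT₁ hnc).1).mpr
        ⟨a₁, ha₁, h⟩
    by_cases hC1 : Subgroup.centralizer ({a₁} : Set G) ≤ S
    · have hr1' : r₁ = 1 := by
        rw [Cfsg.Agent.Lib.Helper76.BG.supportR_eq_bot_of_le hC1, Subgroup.mem_bot] at hr₁
        exact hr₁
      rw [hr1', mul_one] at hw
      rw [hw]
      exact ha₂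
    · obtain ⟨ha1S, ha1ne⟩ := (mem_typeA1_iff_of_TR1 hTR1 hS).mp ha₁
      obtain ⟨N, ⟨hN, ha1N⟩, huniq, hσF, -, -, -, hdec⟩ := h1375 S hS a₁ ha1S ha1ne hC1
      have hsupp := Cfsg.Agent.Lib.Helper44.BG.supportR_eq_of_unique hC1 hN ha1N huniq
      rw [hsupp, ← hσF] at hr₁
      have hr1N : r₁ ∈ sigmaCore N := hr₁.1
      have hr1c : r₁ * a₁ = a₁ * r₁ := Subgroup.mem_centralizer_singleton_iff.mp hr₁.2
      have hdisjN : ∀ p : ℕ, p ∈ sigma S → p ∉ sigma N := by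
        intro p hpS hpN
        obtain ⟨g, hg⟩ := h1378.2 S N hS hN ⟨p, hpS, hpN⟩
        have hσ : sigma N = sigma S := by
          rw [hg]
          exact Cfsg.Agent.Lib.Helper27.BG.sigma_map_conj S g
        have ha1N' : a₁ ∈ N := ha1N (Subgroup.mem_centralizer_singleton_iff.mpr rfl)
        have hmem : a₁ ∈ sigmaCore N := by
          apply Cfsg.Agent.Lib.Helper62.BG.mem_sigmaCore_of_primes N (h1350 N hN).1 ha1N'
          intro q hq hqdvd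
          rw [hσ]
          exact Cfsg.Agent.Lib.Helper67.BG.sigmaCore_isPi S q hq
            (hqdvd.trans (Subgroup.orderOf_dvd_natCard _ ha1S))
        obtain ⟨K', U', hKU'⟩ := exists_sigmaDecomposition_of hG h1351 h1352 N hN
        exact (hdec K' U' hKU').2.2 hmem
      have hcop : (orderOf a₁).Coprime (orderOf r₁) := by
        apply Nat.coprime_of_dvd
        intro p hp h1 h2
        have hpS : p ∈ sigma S := Cfsg.Agent.Lib.Helper67.BG.sigmaCore_isPi S p hp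
          (h1.trans (Subgroup.orderOf_dvd_natCard _ ha1S))
        have hpN : p ∈ sigma N := Cfsg.Agent.Lib.Helper67.BG.sigmaCore_isPi N p hp
          (h2.trans (Subgroup.orderOf_dvd_natCard _ hr1N))
        exact hdisjN p hpS hpN
      obtain ⟨k, hk⟩ := exists_pow_mul_eq_left_of_coprime (show Commute a₁ r₁ from hr1c.symm) hcop
      rw [hw] at hk
      obtain ⟨K1, U1, hKU1⟩ := exists_sigmaDecomposition_of hG h1351 h1352 T₁ hT₁
      obtain ⟨⟨⟨ha2T, y, hy, hy1, ha2y⟩, ha2U⟩, -⟩ := (mem_typeA_iff_of_TR2 hTR2 hT₁ hKU1).mp ha₂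
      refine (mem_typeA_iff_of_TR2 hTR2 hT₁ hKU1).mpr ⟨⟨⟨?_, y, hy, hy1, ?_⟩, ?_⟩, ha1ne⟩
      · rw [← hk]
        exact T₁.pow_mem ha2T k
      · rw [← hk]
        exact ((show Commute a₂ y from ha2y).pow_left k).eq
      · rw [← hk]
        exact Subgroup.pow_mem _ ha2U k
  · exfalso
    obtain ⟨-, hb, -⟩ := h1391 T₁ hT₁ (typeA T₁) (Or.inl rfl)
    have ha2' : a₂ ∈ typeA1 T₁ := (hb a₂ ha₂ hC2).1
    have hz1 : a₁ * r₁ ∈ tildeOf S ((sigmaCore S : Set G) \ {1}) := by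
      rw [← typeA1_eq_of_TR1 hTR1 hS]
      exact ⟨a₁, ha₁, r₁, hr₁, 1, by group⟩
    have hz2 : a₁ * r₁ ∈ tildeOf T₁ ((sigmaCore T₁ : Set G) \ {1}) := by
      rw [← typeA1_eq_of_TR1 hTR1 hT₁, hw]
      exact ⟨a₂, ha2', r₂, hr₂, 1, by group⟩
    have hemp := h1379.1 S T₁ hS hT₁ (fun g hg => hnc g⁻¹ (by
      rw [hg, Cfsg.Agent.Lib.Helper85.BG.map_conj_inv_map_conj]))
    have hmem : a₁ * r₁ ∈ (∅ : Set G) := by
      rw [← hemp]
      exact ⟨hz1, hz2⟩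
    exact hmem

/-- Part (3) of S1539. -/
theorem exists_supports_iff_of_not_conj [Finite G] (hG : IsMinSimpleOddOrder G)
    (h1350 : type_of% (@Cfsg.CfsgFrozen.S1350 G _ _ hG))
    (h1351 : type_of% (@Cfsg.CfsgFrozen.S1351 G _ _ hG))
    (h1352 : type_of% (@Cfsg.CfsgFrozen.S1352 G _ _ hG))
    (h1361 : type_of% (@Cfsg.CfsgFrozen.S1361 G _ _ hG))
    (h1375 : type_of% (@Cfsg.CfsgFrozen.S1375 G _ _ hG))
    (h1378 : type_of% (@Cfsg.CfsgFrozen.S1378 G _ _ hG))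
    (h1379 : type_of% (@Cfsg.CfsgFrozen.S1379 G _ _ hG))
    (h1391 : type_of% (@Cfsg.CfsgFrozen.S1391 G _ _ hG))
    (hTR1 : TR1Hyp G) (hTR2 : TR2Hyp G)
    {S T : Subgroup G} (hS : IsCoatom S) (hT : IsCoatom T)
    (hnc : ∀ g : G, T.map (MulAut.conj g).toMonoidHom ≠ S) :
    (∃ g : G, Supports (T.map (MulAut.conj g).toMonoidHom) S) ↔
      (tildeOf S (typeA1 S) ∩ tildeOf T (typeA T)).Nonempty := by
  have hncg : ∀ c g : G, ((T.map (MulAut.conj c).toMonoidHom).map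
      (MulAut.conj g).toMonoidHom) ≠ S := by
    intro c g
    rw [Cfsg.Agent.Lib.Helper35.BG.map_conj_mul]
    exact hnc (g * c)
  constructor
  · rintro ⟨g, hsup⟩
    have hTg := Cfsg.Agent.Lib.Helper85.BG.isCoatom_map_conj hT g
    obtain ⟨x, hx1, hx2⟩ := ((supports_iff_of_not_conj hG h1351 h1352 h1361 h1375 h1378 h1391
      hTR1 hTR2 hS hTg (hncg g)).1).mp hsup
    have h3 := conj_mem_typeA_map_conj hG h1351 h1352 hTR2 hTg hx2 g⁻¹
    rw [Cfsg.Agent.Lib.Helper85.BG.map_conj_inv_map_conj, inv_inv] at h3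
    exact ⟨x, ⟨x, hx1, 1, Subgroup.one_mem _, 1, by group⟩,
      ⟨g⁻¹ * x * g, h3, 1, Subgroup.one_mem _, g, by group⟩⟩
  · rintro ⟨z, ⟨a1, ha1, r1, hr1, y1, hz1⟩, ⟨a2, ha2, r2, hr2, y2, hz2⟩⟩
    refine ⟨y1⁻¹ * y2, ?_⟩
    have hT1 := Cfsg.Agent.Lib.Helper85.BG.isCoatom_map_conj hT (y1⁻¹ * y2)
    have ha2' := conj_mem_typeA_map_conj hG h1351 h1352 hTR2 hT ha2 (y1⁻¹ * y2)
    have hr2' : (y1⁻¹ * y2) * r2 * (y1⁻¹ * y2)⁻¹ ∈
        supportR (T.map (MulAut.conj (y1⁻¹ * y2)).toMonoidHom)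
          ((y1⁻¹ * y2) * a2 * (y1⁻¹ * y2)⁻¹) := by
      rw [Cfsg.Agent.Lib.Helper76.BG.supportR_map_conj]
      exact Cfsg.Agent.Lib.Helper35.BG.conj_mem_map_conj _ hr2
    have hw : a1 * r1 = ((y1⁻¹ * y2) * a2 * (y1⁻¹ * y2)⁻¹) *
        ((y1⁻¹ * y2) * r2 * (y1⁻¹ * y2)⁻¹) := by
      have h : y1 * (a1 * r1) * y1⁻¹ = y2 * (a2 * r2) * y2⁻¹ := hz1.symm.trans hz2
      calc a1 * r1 = y1⁻¹ * (y1 * (a1 * r1) * y1⁻¹) * y1 := by group
        _ = y1⁻¹ * (y2 * (a2 * r2) * y2⁻¹) * y1 := by rw [h]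
        _ = _ := by group
    exact supports_of_coset_eq hG h1350 h1351 h1352 h1361 h1375 h1378 h1379 h1391 hTR1 hTR2 hS hT1
      (hncg _) ha1 hr1 ha2' hr2' hw

/-- Part (4) of S1539. -/
theorem tilde_inter_empty_or_of_not_conj [Finite G] (hG : IsMinSimpleOddOrder G)
    (h1350 : type_of% (@Cfsg.CfsgFrozen.S1350 G _ _ hG))
    (h1351 : type_of% (@Cfsg.CfsgFrozen.S1351 G _ _ hG))
    (h1352 : type_of% (@Cfsg.CfsgFrozen.S1352 G _ _ hG))
    (h1361 : type_of% (@Cfsg.CfsgFrozen.S1361 G _ _ hG))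
    (h1375 : type_of% (@Cfsg.CfsgFrozen.S1375 G _ _ hG))
    (h1378 : type_of% (@Cfsg.CfsgFrozen.S1378 G _ _ hG))
    (h1379 : type_of% (@Cfsg.CfsgFrozen.S1379 G _ _ hG))
    (h1391 : type_of% (@Cfsg.CfsgFrozen.S1391 G _ _ hG))
    (h1403 : type_of% (@Cfsg.CfsgFrozen.S1403 G _ _ hG))
    (h1436 : type_of% (@Cfsg.CfsgFrozen.S1436 G _ _ hG))
    (hTR1 : TR1Hyp G) (hTR2 : TR2Hyp G)
    {S T : Subgroup G} (hS : IsCoatom S) (hT : IsCoatom T)
    (hnc : ∀ g : G, T.map (MulAut.conj g).toMonoidHom ≠ S) :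
    tildeOf S (typeA1 S) ∩ tildeOf T (typeA T) = ∅ ∨
      tildeOf T (typeA1 T) ∩ tildeOf S (typeA S) = ∅ := by
  by_contra hcon
  rw [not_or] at hcon
  obtain ⟨hne1, hne2⟩ := hcon
  have hnc' : ∀ g : G, S.map (MulAut.conj g).toMonoidHom ≠ T := fun g hg =>
    hnc g⁻¹ (by rw [← hg, Cfsg.Agent.Lib.Helper85.BG.map_conj_inv_map_conj])
  obtain ⟨g, hsup1⟩ := (exists_supports_iff_of_not_conj hG h1350 h1351 h1352 h1361 h1375 h1378
    h1379 h1391 hTR1 hTR2 hS hT hnc).mpr (Set.nonempty_iff_ne_empty.mpr hne1)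
  obtain ⟨h, hsup2⟩ := (exists_supports_iff_of_not_conj hG h1350 h1351 h1352 h1361 h1375 h1378
    h1379 h1391 hTR1 hTR2 hT hS hnc').mpr (Set.nonempty_iff_ne_empty.mpr hne2)
  obtain ⟨hT1, x, hx0, hxS, hxT1⟩ := hsup1
  obtain ⟨hS1, x', hx'0, hx'T, hx'S1⟩ := hsup2
  have hx1 := ((h1391 S hS (typeA0 S) (Or.inr rfl)).2.1 x hx0 hxS).1
  have hx'1 := ((h1391 T hT (typeA0 T) (Or.inr rfl)).2.1 x' hx'0 hx'T).1
  obtain ⟨hxσ, hxne⟩ := (mem_typeA1_iff_of_TR1 hTR1 hS).mp hx1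
  obtain ⟨hx'σ, hx'ne⟩ := (mem_typeA1_iff_of_TR1 hTR1 hT).mp hx'1
  -- a prime of `σ(T)` dividing `|S|`
  have ho1 : orderOf x' ≠ 1 := fun h => hx'ne (orderOf_eq_one_iff.mp h)
  obtain ⟨p, hp, hpdvd⟩ := Nat.exists_prime_and_dvd ho1
  have hpT : p ∈ sigma T := Cfsg.Agent.Lib.Helper67.BG.sigmaCore_isPi T p hp
    (hpdvd.trans (Subgroup.orderOf_dvd_natCard _ hx'σ))
  have hpT1 : p ∈ sigma (T.map (MulAut.conj g).toMonoidHom) := by
    rw [Cfsg.Agent.Lib.Helper27.BG.sigma_map_conj]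
    exact hpT
  have hx'S1' : x' ∈ S.map (MulAut.conj h).toMonoidHom :=
    hx'S1 (Subgroup.mem_centralizer_singleton_iff.mpr rfl)
  have hpS : p ∣ Nat.card S := by
    rw [← Cfsg.Agent.Lib.Helper35.BG.card_map_conj S h]
    exact hpdvd.trans (Subgroup.orderOf_dvd_natCard _ hx'S1')
  obtain ⟨hkap, htau2⟩ := (h1436 S hS x hxσ hxne hxS _ hT1 hxT1).1 ⟨p, hpT1, hpS⟩
  -- the structure of `x'` in `S^h`
  obtain ⟨N', ⟨hN', hx'N'⟩, huniq, -, -, -, -, hdec⟩ := h1375 T hT x' hx'σ hx'ne hx'T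
  have hS1N : S.map (MulAut.conj h).toMonoidHom = N' := huniq _ hS1 hx'S1
  obtain ⟨K1, U1, hKU1⟩ := exists_sigmaDecomposition_of hG h1351 h1352 N' hN'
  obtain ⟨-, ⟨⟨hx'N, y, hy, hy1, hx'y⟩, -⟩, hx'nσ⟩ := hdec K1 U1 hKU1
  have hex : ∃ r : ℕ, r.Prime ∧ r ∣ orderOf x' ∧ r ∉ sigma N' := by
    by_contra hcon2
    push Not at hcon2
    exact hx'nσ (Cfsg.Agent.Lib.Helper62.BG.mem_sigmaCore_of_primes N' (h1350 N' hN').1 hx'N
      hcon2)
  obtain ⟨r, hr, hrdvd, hrN'⟩ := hex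
  have hσN' : sigma N' = sigma S := by
    rw [← hS1N]
    exact Cfsg.Agent.Lib.Helper27.BG.sigma_map_conj S h
  rw [hσN'] at hrN'
  have hco : orderOf (x' ^ (orderOf x' / r)) = r :=
    orderOf_pow_orderOf_div (orderOf_pos x').ne' hrdvd
  have hcN' : x' ^ (orderOf x' / r) ∈ S.map (MulAut.conj h).toMonoidHom := by
    rw [hS1N]
    exact N'.pow_mem hx'N _
  have hyS1 : y ∈ (sigmaCore S).map (MulAut.conj h).toMonoidHom := by
    rw [← Cfsg.Agent.Lib.Helper85.BG.sigmaCore_map_conj, hS1N]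
    exact hy
  have hc0S : h⁻¹ * x' ^ (orderOf x' / r) * h ∈ S :=
    Cfsg.Agent.Lib.Helper35.BG.mem_map_conj_iff.mp hcN'
  have hy0S : h⁻¹ * y * h ∈ sigmaCore S := Cfsg.Agent.Lib.Helper35.BG.mem_map_conj_iff.mp hyS1
  have hcy : x' ^ (orderOf x' / r) * y = y * x' ^ (orderOf x' / r) :=
    ((show Commute x' y from hx'y).pow_left _).eq
  refine no_prime_centralizer_of_kappa_tau2_empty hG h1403 hS hkap htau2 hc0S hr ?_ hrN'
    (h⁻¹ * y * h) hy0S ?_ ?_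
  · have e := Cfsg.Agent.Lib.Helper85.BG.orderOf_conj h⁻¹ (x' ^ (orderOf x' / r))
    rw [inv_inv] at e
    rw [e, hco]
  · have e := Cfsg.Agent.Lib.Helper85.BG.conj_ne_one (g := h⁻¹) hy1
    rw [inv_inv] at e
    exact e
  · calc h⁻¹ * x' ^ (orderOf x' / r) * h * (h⁻¹ * y * h)
        = h⁻¹ * (x' ^ (orderOf x' / r) * y) * h := by group
      _ = h⁻¹ * (y * x' ^ (orderOf x' / r)) * h := by rw [hcy]
      _ = h⁻¹ * y * h * (h⁻¹ * x' ^ (orderOf x' / r) * h) := by group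

/-- **Core of S1539.** -/
theorem s1539_core [Finite G] (hG : IsMinSimpleOddOrder G)
    (h1350 : type_of% (@Cfsg.CfsgFrozen.S1350 G _ _ hG))
    (h1351 : type_of% (@Cfsg.CfsgFrozen.S1351 G _ _ hG))
    (h1352 : type_of% (@Cfsg.CfsgFrozen.S1352 G _ _ hG))
    (h1361 : type_of% (@Cfsg.CfsgFrozen.S1361 G _ _ hG))
    (h1375 : type_of% (@Cfsg.CfsgFrozen.S1375 G _ _ hG))
    (h1378 : type_of% (@Cfsg.CfsgFrozen.S1378 G _ _ hG))
    (h1379 : type_of% (@Cfsg.CfsgFrozen.S1379 G _ _ hG))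
    (h1391 : type_of% (@Cfsg.CfsgFrozen.S1391 G _ _ hG))
    (h1403 : type_of% (@Cfsg.CfsgFrozen.S1403 G _ _ hG))
    (h1436 : type_of% (@Cfsg.CfsgFrozen.S1436 G _ _ hG))
    (hTR1 : TR1Hyp G) (hTR2 : TR2Hyp G) :
    type_of% (@Cfsg.CfsgFrozen.S1539 G _ _ hG) := by
  intro S T hS hT hnc
  obtain ⟨h1, h2⟩ := supports_iff_of_not_conj hG h1351 h1352 h1361 h1375 h1378 h1391 hTR1 hTR2
    hS hT hnc
  exact ⟨h1, h2,
    exists_supports_iff_of_not_conj hG h1350 h1351 h1352 h1361 h1375 h1378 h1379 h1391 hTR1 hTR2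
      hS hT hnc,
    tilde_inter_empty_or_of_not_conj hG h1350 h1351 h1352 h1361 h1375 h1378 h1379 h1391 h1403
      h1436 hTR1 hTR2 hS hT hnc⟩

end Cfsg.Agent.Lib.Helper57.BG
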